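import Groth.Agent.PicAux.PicThick
import Mathlib.AlgebraicGeometry.Morphisms.ClosedImmersion

/-!
# Lifting invertible modules through the units sequence

For `i : Y ⟶ X` and an invertible `L` on `Y` trivial on preimages of an open cover of `X`: if
`H¹(X, O_X^×) → H¹(X, i_* O_Y^×)` is surjective then `L` is a pullback.
-/

universe u

open CategoryTheory Limits AlgebraicGeometry Opposite TopologicalSpace

noncomputable section

namespace Groth.Agent.PicLiftH

open Groth.PicAux Groth.PicAux.PicPush Groth.PicAux.PicThick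

variable {X Y : Scheme.{u}} {i : Y ⟶ X}

theorem exists_rel_of_cover {L : Y.Modules} (U : Y → X.Opens) (e : ∀ y, Γ(L, i ⁻¹ᵁ U y))
    (hxU : ∀ y, y ∈ i ⁻¹ᵁ U y) (he : ∀ y, Gen L (i ⁻¹ᵁ U y) (e y)) (hcov : (⊤ : X.Opens) ≤ iSup U) :
    ∃ q, Rel (i := i) q L := by
  choose a ha using fun x y =>
    ((he y).res (i.preimage_mono (inf_le_right : U x ⊓ U y ≤ U y))).exists_unit
      ((he x).res (i.preimage_mono (inf_le_left : U x ⊓ U y ≤ U x)))
  have hJ : Subsingleton (Sheaf.H (SU i).X₂ 1 : Type u) :=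
    subsingleton_of_forall_eq 0 fun x => CategoryTheory.Abelian.Ext.eq_zero_of_injective x
  obtain ⟨t, ht⟩ := CechOne.exists_split (X := X.toTopCat) (SU i).X₂ hJ U
    hcov (fun x y => jl (a x y)) fun x y z => by
    change resJ i _ (jl (a x y)) + resJ i _ (jl (a y z)) = resJ i _ (jl (a x z))
    rw [jl_res, jl_res, jl_res, ← jl_mul]
    refine congrArg jl (Units.ext ?_)
    refine (he z).smul_inj (i.preimage_mono inf_le_right) ?_
    have e1 := congrArg (res L (i.preimage_mono (inf_le_inf_right (U z) inf_le_left :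
      U x ⊓ U y ⊓ U z ≤ U x ⊓ U z))) (ha x z)
    have e2 := congrArg (res L (i.preimage_mono (inf_le_left :
      U x ⊓ U y ⊓ U z ≤ U x ⊓ U y))) (ha x y)
    have e3 := congrArg (res L (i.preimage_mono (inf_le_inf_right (U z) inf_le_right :
      U x ⊓ U y ⊓ U z ≤ U y ⊓ U z))) (ha y z)
    simp only [res_smul, res_res] at e1 e2 e3
    rw [Units.val_mul, mul_smul]
    refine Eq.trans ?_ e1
    exact (congrArg (resX Y _ (a x y : Γ(Y, i ⁻¹ᵁ (U x ⊓ U y))) • ·) e3).symm.trans e2.symm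
  obtain ⟨q, hq, -⟩ := TopCat.Sheaf.existsUnique_gluing' (X := X.toTopCat) (SU i).X₃ U ⊤
    (fun x => homOfLE le_top) hcov
    (fun x => bU i (U x) (-t x)) (fun x y => by
      change resQ i _ (bU i (U x) (-t x)) = resQ i _ (bU i (U y) (-t y))
      rw [← bU_res, ← bU_res, map_neg, map_neg, map_neg, map_neg, neg_inj]
      refine (sub_eq_zero.1 ?_).symm
      rw [← map_sub, show resJ i _ (t y) - resJ i _ (t x) = _ from (ht x y).symm, bU_jl])
  refine ⟨q, U, e, fun x => -t x, hxU, he, fun x => (hq x).symm, fun x y b hb => ?_⟩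
  have : a x y = b := Units.ext ((he y).smul_inj (i.preimage_mono inf_le_right)
    ((ha x y).symm.trans hb))
  rw [← this, show jl (a x y) = _ from ht x y, map_neg, map_neg]
  abel

theorem rel_shift {q : (SU i).X₃.obj.obj (op (⊤ : X.Opens))} {L : Y.Modules}
    (h : Rel (i := i) q L) (w : (SU i).X₂.obj.obj (op (⊤ : X.Opens))) :
    Rel (i := i) (q + bU i ⊤ w) L := by
  obtain ⟨U, e, t, hxU, he, ht, hrel⟩ := h
  refine ⟨U, e, fun y => t y + resJ i le_top w, hxU, he, fun y => ?_, fun x y a ha => ?_⟩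
  · rw [map_add, bU_res, ht, map_add]
  · rw [map_add, map_add, hrel x y a ha, resJ_resJ, resJ_resJ, add_assoc]

/-- An invertible module glued from `q` is a pullback when `q` lifts in cohomology. -/
theorem exists_pullback_of_rel {q : (SU i).X₃.obj.obj (op (⊤ : X.Opens))} {L : Y.Modules}
    (hq : Rel (i := i) q L) (hsurj : ∀ y : (Sheaf.H (F i) 1 : Type u),
      ∃ x, Sheaf.H.map (UnitsSh.comap i) 1 x = y) :
    ∃ L' : X.Modules, PicF.IsInvertible L' ∧
      Nonempty ((Scheme.Modules.pullback i).obj L' ≅ L) := by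
  obtain ⟨x, hx⟩ := hsurj (δp (F i) q)
  have hx' : Sheaf.H.map (ψ i) 1 (Sheaf.H.map (κ X) 1 x) = δp (F i) q := by
    rw [← Sheaf.H.map_comp_apply, show κ X ≫ ψ i = UnitsSh.comap i by
      rw [ψ, IsIso.hom_inv_id_assoc]]
    exact hx
  obtain ⟨q', hq'⟩ := δp_surjective _ (Sheaf.H.map (κ X) 1 x)
  obtain ⟨L', hL'⟩ := exists_rel (i := 𝟙 X) q'
  refine ⟨L', hL'.isInvertible, ?_⟩
  have h0 : δp (F i) (q - (presMap (ψ i)).τ₃.hom.app (op ⊤) q') = 0 := by
    rw [map_sub, ← hmap_δp, hq', hx', sub_self]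
  obtain ⟨w, hw⟩ := (δp_eq_zero_iff (F i) _).1 h0
  have h1 := rel_shift (Rel.pull i hL') w
  rw [show bU i ⊤ w = _ from hw, add_sub_cancel] at h1
  exact h1.iso hq

/-- An invertible module on a closed subscheme is trivial on traces of a cover of the ambient scheme. -/
theorem exists_cover_of_isClosedImmersion [IsClosedImmersion i] {L : Y.Modules}
    (hL : PicF.IsInvertible L) [Nonempty Y] :
    ∃ (U : Y → X.Opens) (e : ∀ y, Γ(L, i ⁻¹ᵁ U y)), (∀ y, y ∈ i ⁻¹ᵁ U y) ∧
      (∀ y, Gen L (i ⁻¹ᵁ U y) (e y)) ∧ (⊤ : X.Opens) ≤ iSup U := by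
  let C : X.Opens := ⟨(Set.range i)ᶜ, i.isClosedEmbedding.isClosed_range.isOpen_compl⟩
  have h : ∀ y : Y, ∃ (U : X.Opens) (e : Γ(L, i ⁻¹ᵁ U)), C ≤ U ∧ y ∈ i ⁻¹ᵁ U ∧ Gen L (i ⁻¹ᵁ U) e :=
    fun y => by
      obtain ⟨O, e, hy, he⟩ := (isInvertible_iff_exists_gen L).1 hL y
      obtain ⟨V, hV, hVO⟩ := i.isClosedEmbedding.isInducing.isOpen_iff.1 O.2
      have hle : i ⁻¹ᵁ (⟨V, hV⟩ ⊔ C) ≤ O := by
        rintro z (hz | hz)
        · exact hVO.le hz
        · exact absurd ⟨z, rfl⟩ hz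
      exact ⟨⟨V, hV⟩ ⊔ C, res L hle e, le_sup_right, Or.inl (hVO.ge hy), he.res _⟩
  choose U e hC hxU he using h
  refine ⟨U, e, hxU, he, fun x _ => ?_⟩
  by_cases hx : x ∈ Set.range i
  · obtain ⟨y, rfl⟩ := hx
    exact Opens.mem_iSup.2 ⟨y, hxU y⟩
  · exact Opens.mem_iSup.2 ⟨Classical.arbitrary Y, hC _ hx⟩

theorem exists_rel_of_isClosedImmersion [IsClosedImmersion i] {L : Y.Modules}
    (hL : PicF.IsInvertible L) : ∃ q, Rel (i := i) q L := by
  rcases isEmpty_or_nonempty Y with hY | hY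
  · exact ⟨0, isEmptyElim, isEmptyElim, isEmptyElim, isEmptyElim, isEmptyElim, isEmptyElim,
      isEmptyElim⟩
  · obtain ⟨U, e, hxU, he, hcov⟩ := exists_cover_of_isClosedImmersion (i := i) hL
    exact exists_rel_of_cover U e hxU he hcov

/-- Units lift locally along a closed immersion. -/
theorem exists_lift_unit_near [IsClosedImmersion i] {W : X.Opens} (x : X) (hx : x ∈ W)
    (v : Γ(Y, i ⁻¹ᵁ W)ˣ) :
    ∃ (V : X.Opens) (h : V ≤ W), x ∈ V ∧
      ∃ u : Γ(X, V)ˣ, i.app V u = Y.presheaf.map (homOfLE (i.preimage_mono h)).op v := by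
  by_cases hxi : x ∈ Set.range i
  · obtain ⟨y, rfl⟩ := hxi
    obtain ⟨_, ⟨V, hV, rfl⟩, hxV, hle⟩ := X.isBasis_affineOpens.exists_subset_of_mem_open hx W.2
    let v' : Γ(Y, i ⁻¹ᵁ V)ˣ := Units.map
      (Y.presheaf.map (homOfLE (i.preimage_mono hle)).op).hom.toMonoidHom v
    obtain ⟨c, hc⟩ := i.app_surjective V hV (v' : Γ(Y, i ⁻¹ᵁ V))
    have hu : IsUnit (X.presheaf.germ V (i y) hxV c) := by
      refine (isUnit_map_iff (i.stalkMap y).hom _).mp ?_
      rw [Scheme.Hom.germ_stalkMap_apply, hc]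
      exact v'.isUnit.map _
    refine ⟨X.basicOpen c, (X.basicOpen_le c).trans hle, (Scheme.mem_basicOpen X c _ hxV).mpr hu,
      (RingedSpace.isUnit_res_basicOpen _ c).unit, ?_⟩
    rw [IsUnit.unit_spec]
    refine (congr($(i.naturality (homOfLE (X.basicOpen_le c)).op) c)).trans ?_
    rw [CommRingCat.comp_apply, hc]
    exact congr($((Y.presheaf.map_comp (homOfLE (i.preimage_mono hle)).op
      (homOfLE (i.preimage_mono (X.basicOpen_le c))).op).symm) (v : Γ(Y, i ⁻¹ᵁ W)))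
  · let V : X.Opens := W ⊓ ⟨(Set.range i)ᶜ, i.isClosedEmbedding.isClosed_range.isOpen_compl⟩
    have hV : i ⁻¹ᵁ V = ⊥ := eq_bot_iff.mpr fun z hz => absurd ⟨z, rfl⟩ hz.2
    haveI : Subsingleton Γ(Y, i ⁻¹ᵁ V) := by
      rw [hV]; infer_instance
    exact ⟨V, inf_le_left, ⟨hx, hxi⟩, 1, Subsingleton.elim _ _⟩

theorem epi_comap [IsClosedImmersion i] : Epi (UnitsSh.comap i) := by
  refine (CategoryTheory.Sheaf.isLocallySurjective_iff_epi' AddCommGrpCat.{u} _).mp ?_
  refine (TopCat.Presheaf.isLocallySurjective_iff (UnitsSh.comap i).hom).mpr fun W q x hx => ?_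
  obtain ⟨V, h, hxV, u, hu⟩ := exists_lift_unit_near (i := i) x hx
    (UnitsSh.unitOfSect (O := Y.presheaf) (U := op (i ⁻¹ᵁ W)) q)
  exact ⟨V, h, ⟨UnitsSh.sectOfUnit (O := X.presheaf) u,
    congrArg (UnitsSh.sectOfUnit (O := Y.presheaf)) (Units.ext hu)⟩, hxV⟩

/-- An invertible module on a closed subscheme lifts when the obstruction sheaf has no `H²`. -/
theorem exists_pullback_of_isClosedImmersion [IsClosedImmersion i] {L : Y.Modules}
    (hL : PicF.IsInvertible L)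
    (h2 : ∀ K : CohBase.AbSheaf X.toTopCat, Subsingleton (Sheaf.H K 2 : Type u)) :
    ∃ L' : X.Modules, PicF.IsInvertible L' ∧
      Nonempty ((Scheme.Modules.pullback i).obj L' ≅ L) := by
  obtain ⟨q, hq⟩ := exists_rel_of_isClosedImmersion (i := i) hL
  refine exists_pullback_of_rel hq fun y => ?_
  let S : ShortComplex (CohBase.AbSheaf X.toTopCat) :=
    ShortComplex.mk (kernel.ι (UnitsSh.comap i)) (UnitsSh.comap i) (kernel.condition _)
  haveI : Epi S.g := epi_comap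
  have hS : S.ShortExact :=
    { exact := ShortComplex.exact_of_f_is_kernel _ (kernelIsKernel _) }
  haveI := h2 S.X₁
  exact AbLES.exists_of_δ_eq_zero hS 1 (Subsingleton.elim _ _)

end Groth.Agent.PicLiftH
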